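import Cfsg.Agent.J2Type.CStruct
import Cfsg.Agent.KFacts.QMinus
import Cfsg.Agent.KFacts.J2.Facts
import Cfsg.Agent.J2Type.ThreeF
import Cfsg.Agent.J2Type.FiveFus
import Cfsg.Agent.H102.AAJtwo
import Cfsg.Agent.H976.Cop.Bridge
import Cfsg.Agent.Lib.PermCode
import Cfsg.Agent.Lib.DivFast
import Cfsg.Agent.FastGrp
import Cfsg.Agent.Prune
set_option linter.all false
open scoped Cfsg.Agent.FastGrp

-- part: H306/J2/RealC
section
/-!
# `J₂` is ambivalent: the centraliser of a 2-central involution (task 1976, helper306)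

`real_C`: in `C = 2^{1+4}_- : A₅` every element with `z` among its powers is conjugate to its inverse.
-/

set_option autoImplicit false

namespace Cfsg.Agent.H306.J2

open Cfsg.Agent.J2Type.Model Cfsg.Agent.J2Type.SPFacts Cfsg.Agent.J2Type.CStruct

/-- the image of `v i` -/
def vi (i : Fin 5) : SP := ⟨1, fun j => if j = i then 0 else 1⟩

/-- the property checked by `decide`: one of
* `g²` or `g³` is the image of some `v i`;
* `g` is inverted by an element of `C̄`, and `g³ = 1` or `g⁵ = 1` or some lift of `g` is conjugate to its product with `z` -/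
def Chk (τ : Equiv.Perm (Fin 5)) (g : SP) : Prop :=
  (∃ i, g * g = vi i) ∨ (∃ i, g * g * g = vi i) ∨
    ((∃ r : Fin 5 → ZMod 2, ∑ i, r i = 0 ∧ (⟨τ, r⟩ : SP) * g * (⟨τ, r⟩ : SP)⁻¹ = g⁻¹) ∧
      (g * g * g = 1 ∨ g * g * g * g * g = 1 ∨ (∃ i, g.σ i = i ∧ g.s i = 1) ∨
        ∃ i j, i ≠ j ∧ g.σ i = j ∧ g.σ j = i ∧ g.s i = g.s j))

instance instDecidableChkH306 (τ : Equiv.Perm (Fin 5)) (g : SP) : Decidable (Chk τ g) := by
  unfold Chk
  infer_instance

theorem chk0 : ∀ s : Fin 5 → ZMod 2, ∑ i, s i = 0 → Chk 1 ⟨σ0, s⟩ := by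
  decide +kernel

theorem chk3 : ∀ s : Fin 5 → ZMod 2, ∑ i, s i = 0 → Chk d3.σ ⟨τ3, s⟩ := by
  decide +kernel

theorem chk5 : ∀ s : Fin 5 → ZMod 2, ∑ i, s i = 0 → Chk d5.σ ⟨τ5, s⟩ := by
  decide +kernel

theorem chk5' : ∀ s : Fin 5 → ZMod 2, ∑ i, s i = 0 → Chk d5.σ ⟨τ5 * τ5, s⟩ := by
  decide +kernel

theorem reps : ∀ σ : Equiv.Perm (Fin 5), Equiv.Perm.sign σ = 1 → σ = 1 ∨
    ∃ τ : Equiv.Perm (Fin 5), Equiv.Perm.sign τ = 1 ∧
      (τ * σ = σ0 * τ ∨ τ * σ = τ3 * τ ∨ τ * σ = τ5 * τ ∨ τ * σ = τ5 * τ5 * τ) := by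
  simp only [↓Cfsg.Agent.PermCode.M, Cfsg.Agent.PermCode.P5.R, Cfsg.Agent.PermCode.B]
  decide +kernel

theorem isConj_inv_of_conj {C : Type*} [Group C] {x g : C} (h : IsConj (g * x * g⁻¹) (g * x * g⁻¹)⁻¹) :
    IsConj x x⁻¹ := by
  have h1 : IsConj x (g * x * g⁻¹) := isConj_iff.2 ⟨g, rfl⟩
  have h2 : IsConj (g * x * g⁻¹)⁻¹ x⁻¹ := isConj_iff.2 ⟨g⁻¹, by group⟩
  exact (h1.trans h).trans h2

variable {C : Type*} [Group C] {Q : Subgroup C} {z : C} {v : Fin 5 → C} {ρ : C →* SP}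

/-- inverted modulo `z` -/
theorem inv_or (M : IsModel Q z v ρ) {x g : C} (h : ρ g * ρ x * (ρ g)⁻¹ = (ρ x)⁻¹) :
    g * x * g⁻¹ = x⁻¹ ∨ g * x * g⁻¹ = z * x⁻¹ := by
  have h1 : ρ (g * x * g⁻¹ * x) = 1 := by
    rw [map_mul, map_mul, map_mul, map_inv, h, inv_mul_cancel]
  rcases (M.ker _).1 h1 with h2 | h2
  · left
    exact eq_inv_of_mul_eq_one_left h2
  · right
    exact eq_mul_inv_of_mul_eq h2

/-- an element conjugate to its product with `z` and inverted modulo `z` -/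
theorem real_of_zx (M : IsModel Q z v ρ) {x g k : C} (h : ρ g * ρ x * (ρ g)⁻¹ = (ρ x)⁻¹)
    (hk : k * x * k⁻¹ = z * x) : IsConj x x⁻¹ := by
  rcases inv_or M h with h1 | h1
  · exact isConj_iff.2 ⟨g, h1⟩
  · refine isConj_iff.2 ⟨k * g, ?_⟩
    have hzi : z⁻¹ = z := inv_eq_of_mul_eq_one_left M.z_sq
    calc k * g * x * (k * g)⁻¹ = k * (g * x * g⁻¹) * k⁻¹ := by group
      _ = k * (z * x⁻¹) * k⁻¹ := by rw [h1]
      _ = (k * z) * x⁻¹ * k⁻¹ := by group
      _ = (z * k) * x⁻¹ * k⁻¹ := by rw [M.z_comm]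
      _ = z * (k * x * k⁻¹)⁻¹ := by group
      _ = z * (x⁻¹ * z⁻¹) := by rw [hk, mul_inv_rev]
      _ = z * (x⁻¹ * z) := by rw [hzi]
      _ = z * (z * x⁻¹) := by rw [M.z_comm]
      _ = x⁻¹ := by rw [← mul_assoc, M.z_sq, one_mul]

/-- an element of odd order modulo `z`, inverted modulo `z` -/
theorem real_of_odd (M : IsModel Q z v ρ) {x g : C} (h : ρ g * ρ x * (ρ g)⁻¹ = (ρ x)⁻¹) {n : ℕ} (hn : Odd n)
    (hx : ρ x ^ n = 1) : IsConj x x⁻¹ := by
  rcases inv_or M h with h1 | h1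
  · exact isConj_iff.2 ⟨g, h1⟩
  exfalso
  have h2 : ρ (x ^ n) = 1 := by rw [map_pow, hx]
  have h3 : x ^ n * x ^ n = 1 := by
    rcases (M.ker _).1 h2 with h4 | h4
    · rw [h4, one_mul]
    · rw [h4, M.z_sq]
  have h4 : ∀ c, x ^ n * c = c * x ^ n := by
    intro c
    rcases (M.ker _).1 h2 with h4 | h4
    · rw [h4, one_mul, mul_one]
    · rw [h4, M.z_comm]
  have h5 : (g * x * g⁻¹) ^ n = x ^ n := by rw [conj_pow, ← h4, mul_inv_cancel_right]
  have hc : Commute z x⁻¹ := (M.z_comm x⁻¹).symm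
  have hz2 : z ^ 2 = 1 := by rw [pow_two, M.z_sq]
  have hzn : z ^ n = z := by
    obtain ⟨m, rfl⟩ := hn
    rw [pow_add, pow_mul, hz2, one_pow, one_mul, pow_one]
  rw [h1, hc.mul_pow, hzn, inv_pow, inv_eq_of_mul_eq_one_left h3] at h5
  apply M.z_ne
  exact mul_eq_right.1 h5

/-- `z` is not a power of `x` if `x²` or `x³` is an involution of `Q` different from `z` -/
theorem notMem_zpowers {x w : C} (hz1 : z ≠ 1) (hzz : z * z = 1) (hw1 : w ≠ 1) (hwz : w ≠ z) (hww : w * w = 1)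
    (h : x * x = w ∨ x * x * x = w) : z ∉ Subgroup.zpowers x := by
  intro hz
  obtain ⟨k, hk⟩ := Subgroup.mem_zpowers_iff.1 hz
  have hw2 : ∀ m : ℤ, w ^ m = 1 ∨ w ^ m = w := by
    intro m
    have hw2 : w ^ (2 : ℤ) = 1 := by rw [zpow_two, hww]
    rcases Int.even_or_odd m with ⟨n, hn⟩ | ⟨n, hn⟩
    · left
      rw [hn, ← two_mul, zpow_mul, hw2, one_zpow]
    · right
      rw [hn, zpow_add, zpow_mul, hw2, one_zpow, one_mul, zpow_one]
  have hcon : ∀ m : ℤ, z ≠ w ^ m := by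
    intro m hm
    rcases hw2 m with h1 | h1
    · exact hz1 (by rw [hm, h1])
    · exact hwz (by rw [hm, h1])
  rcases h with h | h
  · rcases Int.even_or_odd k with ⟨n, hn⟩ | ⟨n, hn⟩
    · apply hcon n
      rw [← hk, hn, ← two_mul, zpow_mul, zpow_two, h]
    · have h1 : z * z = w ^ k := by
        rw [← hk, ← h, (Commute.refl x).mul_zpow]
      rw [hzz] at h1
      have h2 : w ^ k = w := by
        have hw2 : w ^ (2 : ℤ) = 1 := by rw [zpow_two, hww]
        rw [hn, zpow_add, zpow_mul, hw2, one_zpow, one_mul, zpow_one]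
      exact hw1 (by rw [← h2, ← h1])
  · apply hcon k
    have h1 : z * z * z = w ^ k := by
      rw [← hk, ← h, ((Commute.refl x).mul_left (Commute.refl x)).mul_zpow, (Commute.refl x).mul_zpow]
    rw [hzz, one_mul] at h1
    exact h1

/-- one of the elements of `Q` conjugates `x` to `z x` -/
theorem exists_zx_fix (M : IsModel Q z v ρ) {x : C} {i : Fin 5} (h1 : (ρ x).σ i = i) (h2 : (ρ x).s i = 1) :
    ∃ k, k * x * k⁻¹ = z * x := by
  have h := M.conj x i
  rw [h1, h2, zp_one] at h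
  refine ⟨v i, ?_⟩
  have hzi : z⁻¹ = z := inv_eq_of_mul_eq_one_left M.z_sq
  have h3 : x * v i = z * v i * x := mul_inv_eq_iff_eq_mul.1 h
  have hvi : (v i)⁻¹ = v i := inv_eq_of_mul_eq_one_left (M.v_sq i)
  calc v i * x * (v i)⁻¹ = v i * (x * v i) := by rw [hvi]; group
    _ = v i * (z * v i * x) := by rw [h3]
    _ = (v i * z) * v i * x := by group
    _ = z * (v i * v i) * x := by rw [M.z_comm]; group
    _ = z * x := by rw [M.v_sq, mul_one]

theorem exists_zx_swap (M : IsModel Q z v ρ) {x : C} {i j : Fin 5} (hij : i ≠ j) (h1 : (ρ x).σ i = j)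
    (h2 : (ρ x).σ j = i) (h3 : (ρ x).s i = (ρ x).s j) : ∃ k, k * x * k⁻¹ = z * x := by
  have hi := M.conj x i
  have hj := M.conj x j
  rw [h1] at hi
  rw [h2, ← h3] at hj
  set w := v i * v j with hw
  have hzi : z⁻¹ = z := inv_eq_of_mul_eq_one_left M.z_sq
  have hww : w * w = z := vv_sq M hij
  have h4 : x * w * x⁻¹ = z * w := by
    calc x * w * x⁻¹ = (x * v i * x⁻¹) * (x * v j * x⁻¹) := by rw [hw]; group
      _ = (zp z ((ρ x).s i) * v j) * (zp z ((ρ x).s i) * v i) := by rw [hi, hj]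
      _ = zp z ((ρ x).s i) * (v j * zp z ((ρ x).s i)) * v i := by group
      _ = (zp z ((ρ x).s i) * zp z ((ρ x).s i)) * (v j * v i) := by rw [zp_comm' M]; group
      _ = v j * v i := by rw [zp_sq M, one_mul]
      _ = z * (v i * v j) := M.v_anti j i hij.symm
  refine ⟨w, ?_⟩
  have h5 : x * w = z * w * x := mul_inv_eq_iff_eq_mul.1 h4
  have hwi : w⁻¹ = z * w := by
    rw [inv_eq_iff_mul_eq_one, ← mul_assoc, M.z_comm, mul_assoc, hww, M.z_sq]
  calc w * x * w⁻¹ = w * (x * (z * w)) := by rw [hwi]; group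
    _ = w * ((x * z) * w) := by group
    _ = w * (z * (x * w)) := by rw [M.z_comm]; group
    _ = w * (z * (z * w * x)) := by rw [h5]
    _ = w * ((z * z) * w * x) := by group
    _ = (w * w) * x := by rw [M.z_sq]; group
    _ = z * x := by rw [hww]

/-- an element satisfying the check -/
theorem real_of_chk (M : IsModel Q z v ρ) {τ : Equiv.Perm (Fin 5)} (hτ : Equiv.Perm.sign τ = 1) {x : C}
    (h : Chk τ (ρ x)) (hz : z ∈ Subgroup.zpowers x) : IsConj x x⁻¹ := by
  have hv : ∀ i, ∀ y : C, ρ y = vi i → y ≠ 1 ∧ y ≠ z ∧ y * y = 1 := by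
    intro i y hy
    obtain ⟨a, ha⟩ := eq_of_rho_eq M (x := y) (y := v i) (by rw [hy, rho_v M i]; rfl)
    rw [ha]
    exact ⟨v_ne_one M i a, zv_ne_z M a i, zv_sq M a i⟩
  rcases h with ⟨i, hi⟩ | ⟨i, hi⟩ | ⟨⟨r, hr, hinv⟩, h⟩
  · exfalso
    obtain ⟨h1, h2, h3⟩ := hv i (x * x) (by rw [map_mul, hi])
    exact notMem_zpowers M.z_ne M.z_sq h1 h2 h3 (Or.inl rfl) hz
  · exfalso
    obtain ⟨h1, h2, h3⟩ := hv i (x * x * x) (by rw [map_mul, map_mul, hi])
    exact notMem_zpowers M.z_ne M.z_sq h1 h2 h3 (Or.inr rfl) hz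
  · obtain ⟨g, hg⟩ := (M.range ⟨τ, r⟩).2 ⟨hτ, hr⟩
    rw [← hg] at hinv
    rcases h with h | h | ⟨i, h1, h2⟩ | ⟨i, j, hij, h1, h2, h3⟩
    · refine real_of_odd M hinv (n := 3) (by decide) ?_
      rw [pow_succ, pow_two, h]
    · refine real_of_odd M hinv (n := 5) (by decide) ?_
      rw [pow_succ, pow_succ, pow_succ, pow_two, h]
    · obtain ⟨k, hk⟩ := exists_zx_fix M h1 h2
      exact real_of_zx M hinv hk
    · obtain ⟨k, hk⟩ := exists_zx_swap M hij h1 h2 h3
      exact real_of_zx M hinv hk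

/-- **Every element of `C` with `z` among its powers is real.** -/
theorem real_C (M : IsModel Q z v ρ) (x : C) (hz : z ∈ Subgroup.zpowers x) : IsConj x x⁻¹ := by
  obtain ⟨hs, hsum⟩ := (M.range (ρ x)).1 ⟨x, rfl⟩
  rcases reps (ρ x).σ hs with h1 | ⟨τ, hτ, h1⟩
  · -- `x ∈ Q`
    have hxQ : x ∈ Q := (M.mem_Q x).2 h1
    rcases M.cover x hxQ with ⟨a, ha⟩ | ⟨a, i, ha⟩ | ⟨a, i, j, hij, ha⟩
    · have h2 : x * x = 1 := by rw [ha]; exact zp_sq M a
      rw [inv_eq_of_mul_eq_one_left h2]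
    · have h2 : x * x = 1 := by rw [ha]; exact zv_sq M a i
      rw [inv_eq_of_mul_eq_one_left h2]
    · have h3 : (ρ x).s i = 1 := by
        rw [ha, map_mul, map_mul, rho_zp M, one_mul, rho_v M, rho_v M, mul_s]
        show (if i = j then (0 : ZMod 2) else 1) + (if i = i then 0 else 1) = 1
        rw [if_neg hij.ne, if_pos rfl, add_zero]
      obtain ⟨k, hk⟩ := exists_zx_fix M (i := i) (by rw [h1]; rfl) h3
      refine real_of_zx M (g := 1) ?_ hk
      rw [map_one, inv_one, one_mul, mul_one]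
      have h4 : ρ x * ρ x = 1 := by
        apply SP.ext
        · rw [mul_σ, h1, one_mul]
          rfl
        · funext l
          rw [mul_s, h1, Equiv.Perm.one_apply, CharTwo.add_self_eq_zero]
          rfl
      exact eq_inv_of_mul_eq_one_left h4
  · -- conjugate `x`
    obtain ⟨g, hg⟩ := (M.range ⟨τ, fun _ => 0⟩).2 ⟨hτ, by simp⟩
    apply isConj_inv_of_conj (g := g)
    have hz' : z ∈ Subgroup.zpowers (g * x * g⁻¹) := by
      obtain ⟨k, hk⟩ := Subgroup.mem_zpowers_iff.1 hz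
      refine Subgroup.mem_zpowers_iff.2 ⟨k, ?_⟩
      rw [conj_zpow, hk, M.z_comm, mul_inv_cancel_right]
    have hsum' : ∑ i, (ρ (g * x * g⁻¹)).s i = 0 := ((M.range _).1 ⟨_, rfl⟩).2
    have hσ : ∀ σ', τ * (ρ x).σ = σ' * τ → (ρ (g * x * g⁻¹)).σ = σ' := by
      intro σ' h2
      rw [map_mul, map_mul, map_inv, mul_σ, mul_σ, inv_σ, hg]
      show τ * (ρ x).σ * τ⁻¹ = σ'
      rw [h2, mul_inv_cancel_right]
    have hfin : ∀ σ', τ * (ρ x).σ = σ' * τ → ρ (g * x * g⁻¹) = ⟨σ', (ρ (g * x * g⁻¹)).s⟩ := by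
      intro σ' h2
      rw [← hσ σ' h2]
    rcases h1 with h1 | h1 | h1 | h1
    · refine real_of_chk M (τ := 1) (Equiv.Perm.sign_one) ?_ hz'
      rw [hfin _ h1]
      exact chk0 _ hsum'
    · refine real_of_chk M (τ := d3.σ) d3_E.1 ?_ hz'
      rw [hfin _ h1]
      exact chk3 _ hsum'
    · refine real_of_chk M (τ := d5.σ) d5_E.1 ?_ hz'
      rw [hfin _ h1]
      exact chk5 _ hsum'
    · refine real_of_chk M (τ := d5.σ) d5_E.1 ?_ hz'
      rw [hfin _ h1]
      exact chk5' _ hsum'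

end Cfsg.Agent.H306.J2
end

-- part: H306/J2/Amb
section
/-!
# `J₂` is ambivalent (task 1976, helper306)

`amb`: every element of `J₂` is conjugate to its inverse. `row_j2`: the row `J₂` of S4175.
-/

set_option autoImplicit false

namespace Cfsg.Agent.H306.J2

open Subgroup Cfsg.Agent.J2Type.Base Cfsg.Agent.J2Type.Model Cfsg.Agent.J2Type.CentU Cfsg.Agent.J2Type.CentQuot

variable {G : Type*} [Group G] {z u : G}

theorem amb_A5 : ∀ g : alternatingGroup (Fin 5), ∃ x : alternatingGroup (Fin 5), x * g * x⁻¹ = g⁻¹ := by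
  simp only [↓Cfsg.Agent.PermCode.M, Cfsg.Agent.PermCode.P5.R, Cfsg.Agent.PermCode.B]
  decide +kernel

theorem conj3_A5 : ∀ g k : alternatingGroup (Fin 5), g ^ 3 = 1 → g ≠ 1 → k ^ 3 = 1 → k ≠ 1 →
    ∃ x : alternatingGroup (Fin 5), x * g * x⁻¹ = k := by
  simp only [↓Cfsg.Agent.PermCode.M, Cfsg.Agent.PermCode.P5.R, Cfsg.Agent.PermCode.B]
  decide +kernel

theorem isConj_pow {a b : G} (h : IsConj a b) (n : ℕ) : IsConj (a ^ n) (b ^ n) := by
  obtain ⟨g, hg⟩ := isConj_iff.1 h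
  exact isConj_iff.2 ⟨g, by rw [← hg, conj_pow]⟩

theorem real_pow {x : G} (h : IsConj x x⁻¹) (n : ℕ) : IsConj (x ^ n) (x ^ n)⁻¹ := by
  have := isConj_pow h n
  rwa [inv_pow] at this

/-- elements of `C(u)` -/
theorem real_u [Finite G] (h : Fus z u) {x : G} (hx : x * u = u * x) : IsConj x x⁻¹ := by
  obtain ⟨f, U, V, H0, F⟩ := Cfsg.Agent.J2Type.CentU.main h
  have h60 := Cfsg.Agent.J2Type.ThreeA.card_H0 h F
  obtain ⟨a, ha, b, hb, rfl⟩ := Cfsg.Agent.J2Type.Cent5.exists_mul F (mem_centralizer_singleton_iff.2 hx)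
  obtain ⟨e⟩ := Cfsg.Agent.J2Type.Cent5.exists_equiv h F h60
  obtain ⟨k, hk⟩ := amb_A5 (e ⟨b, hb⟩)
  have hk' : (e.symm k : G) * b * (e.symm k : G)⁻¹ = b⁻¹ := by
    have h1 : e.symm k * ⟨b, hb⟩ * (e.symm k)⁻¹ = (⟨b, hb⟩ : H0)⁻¹ := by
      apply e.injective
      rw [map_mul, map_mul, map_inv, map_inv, e.apply_symm_apply, hk]
    exact congrArg Subtype.val h1
  have hak : a * (e.symm k : G) = (e.symm k : G) * a := Cfsg.Agent.J2Type.Cent5.V_comm h F h60 ha (e.symm k).2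
  have hab : a * b⁻¹ = b⁻¹ * a := Cfsg.Agent.J2Type.Cent5.V_comm h F h60 ha (H0.inv_mem hb)
  have hai := Cfsg.Agent.J2Type.Cent5.inv_V h F ha
  refine isConj_iff.2 ⟨(e.symm k : G), ?_⟩
  calc (e.symm k : G) * (a * b) * (e.symm k : G)⁻¹ = ((e.symm k : G) * a) * b * (e.symm k : G)⁻¹ := by group
    _ = a * ((e.symm k : G) * b * (e.symm k : G)⁻¹) := by rw [← hak]; group
    _ = b⁻¹ * a := by rw [hk', hab]
    _ = (a * b)⁻¹ := by rw [mul_inv_rev, hai]

/-- elements with `z` among their powers -/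
theorem real_z {Q : Subgroup (centralizer ({z} : Set G))} {v : Fin 5 → centralizer ({z} : Set G)}
    {ρ : centralizer ({z} : Set G) →* SP} (D : Cfsg.Agent.KFacts.J2.Basic.Dat z u Q v ρ) {x : G}
    (hx : z ∈ zpowers x) : IsConj x x⁻¹ := by
  have hxz : x * z = z * x := by
    obtain ⟨k, rfl⟩ := mem_zpowers_iff.1 hx
    exact ((Commute.refl x).zpow_right k).eq
  have hxm : x ∈ centralizer ({z} : Set G) := mem_centralizer_singleton_iff.2 hxz
  have h1 : (Cfsg.Agent.J3Type.OneClass.zc z) ∈ zpowers (⟨x, hxm⟩ : centralizer ({z} : Set G)) := by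
    obtain ⟨k, hk⟩ := mem_zpowers_iff.1 hx
    exact mem_zpowers_iff.2 ⟨k, Subtype.ext hk⟩
  obtain ⟨g, hg⟩ := isConj_iff.1 (real_C D.M _ h1)
  exact isConj_iff.2 ⟨g, congrArg Subtype.val hg⟩

theorem mem_zpowers_conj {x y : G} (g : G) (h : y ∈ zpowers x) : g * y * g⁻¹ ∈ zpowers (g * x * g⁻¹) := by
  obtain ⟨k, rfl⟩ := mem_zpowers_iff.1 h
  exact mem_zpowers_iff.2 ⟨k, conj_zpow⟩

/-- elements of even order -/
theorem real_even [Finite G] {Q : Subgroup (centralizer ({z} : Set G))} {v : Fin 5 → centralizer ({z} : Set G)}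
    {ρ : centralizer ({z} : Set G) →* SP} (D : Cfsg.Agent.KFacts.J2.Basic.Dat z u Q v ρ) {x : G}
    (hx : 2 ∣ orderOf x) : IsConj x x⁻¹ := by
  have hi : orderOf (x ^ (orderOf x / 2)) = 2 := orderOf_pow_orderOf_div (orderOf_pos x).ne' hx
  have hmem : x ^ (orderOf x / 2) ∈ zpowers x := pow_mem (mem_zpowers x) _
  set i := x ^ (orderOf x / 2) with hidef
  rcases D.F.cover i hi with h1 | h1
  · obtain ⟨g, hg⟩ := isConj_iff.1 h1
    apply isConj_inv_of_conj (g := g⁻¹)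
    apply real_z D
    have h2 := mem_zpowers_conj g⁻¹ hmem
    rwa [show g⁻¹ * i * g⁻¹⁻¹ = z by rw [← hg]; group] at h2
  · obtain ⟨g, hg⟩ := isConj_iff.1 h1
    apply isConj_inv_of_conj (g := g⁻¹)
    apply real_u D.F
    have h2 := mem_zpowers_conj g⁻¹ hmem
    rw [show g⁻¹ * i * g⁻¹⁻¹ = u by rw [← hg]; group] at h2
    obtain ⟨k, hk⟩ := mem_zpowers_iff.1 h2
    rw [← hk]
    exact ((Commute.refl _).zpow_right k).eq

/-- an element of odd order commuting with an involution -/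
theorem real_of_comm [Finite G] {Q : Subgroup (centralizer ({z} : Set G))} {v : Fin 5 → centralizer ({z} : Set G)}
    {ρ : centralizer ({z} : Set G) →* SP} (D : Cfsg.Agent.KFacts.J2.Basic.Dat z u Q v ρ) {x : G}
    (hx : Odd (orderOf x)) (h2 : 2 ∣ Nat.card (centralizer ({x} : Set G))) : IsConj x x⁻¹ := by
  have : Fact (Nat.Prime 2) := ⟨Nat.prime_two⟩
  obtain ⟨⟨i, hi⟩, hi2⟩ := exists_prime_orderOf_dvd_card' (G := centralizer ({x} : Set G)) 2 h2
  rw [Subgroup.orderOf_mk] at hi2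
  have hix : Commute i x := mem_centralizer_singleton_iff.1 hi
  have hcop : Nat.Coprime (orderOf i) (orderOf x) := by
    rw [hi2]
    exact (Nat.coprime_two_left).2 hx
  have ho : orderOf (i * x) = 2 * orderOf x := by
    rw [hix.orderOf_mul_eq_mul_orderOf_of_coprime hcop, hi2]
  have h3 : IsConj (i * x) (i * x)⁻¹ := real_even D (by rw [ho]; exact dvd_mul_right _ _)
  have h4 : (i * x) ^ (orderOf x + 1) = x := by
    rw [hix.mul_pow, pow_succ x, pow_orderOf_eq_one, one_mul]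
    obtain ⟨m, hm⟩ := hx
    have : i ^ (orderOf x + 1) = 1 := by
      apply orderOf_dvd_iff_pow_eq_one.1
      rw [hi2, hm]
      omega
    rw [this, one_mul]
  have h5 := real_pow h3 (orderOf x + 1)
  rwa [h4] at h5

/-- elements of order 3 of `C(w)`, `w` of order 5 in `H0` -/
theorem conj_three_of_equiv {w : G} (hw : orderOf w = 5) (e : CQ w ≃* alternatingGroup (Fin 5)) {a b : G}
    (ha : orderOf a = 3) (hb : orderOf b = 3) (haw : a * w = w * a) (hbw : b * w = w * b) :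
    ∃ k : G, k * w = w * k ∧ k * a * k⁻¹ = b := by
  have ham : a ∈ centralizer ({w} : Set G) := mem_centralizer_singleton_iff.2 haw
  have hbm : b ∈ centralizer ({w} : Set G) := mem_centralizer_singleton_iff.2 hbw
  have key : ∀ (c : G) (hc : c ∈ centralizer ({w} : Set G)), orderOf c = 3 →
      (e ((⟨c, hc⟩ : centralizer ({w} : Set G)) : CQ w)) ^ 3 = 1 ∧
        e ((⟨c, hc⟩ : centralizer ({w} : Set G)) : CQ w) ≠ 1 := by
    intro c hc h3
    constructor
    · rw [← map_pow]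
      have h1 : ((⟨c, hc⟩ : centralizer ({w} : Set G)) : CQ w) ^ 3 = 1 := by
        have h2 : (⟨c, hc⟩ : centralizer ({w} : Set G)) ^ 3 = 1 := by
          apply Subtype.ext
          show c ^ 3 = 1
          rw [← h3, pow_orderOf_eq_one]
        rw [← QuotientGroup.mk_pow, h2]
        rfl
      rw [h1, map_one]
    · intro h1
      rw [map_eq_one_iff e e.injective] at h1
      have h2 : c ∈ zpowers w := (Cfsg.Agent.J2Type.CentQuot.mk_eq_one (⟨c, hc⟩ : centralizer ({w} : Set G))).1 h1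
      have h4 : orderOf c ∣ 5 := by
        rw [← hw, ← Nat.card_zpowers w]
        have := orderOf_dvd_natCard (⟨c, h2⟩ : zpowers w)
        rwa [Subgroup.orderOf_mk] at this
      rw [h3] at h4
      norm_num at h4
  obtain ⟨h1, h2⟩ := key a ham ha
  obtain ⟨h3, h4⟩ := key b hbm hb
  obtain ⟨x, hx⟩ := conj3_A5 _ _ h1 h2 h3 h4
  obtain ⟨k, hk⟩ := QuotientGroup.mk_surjective (e.symm x)
  have h5 : ((k * ⟨a, ham⟩ * k⁻¹ * (⟨b, hbm⟩ : centralizer ({w} : Set G))⁻¹ : centralizer ({w} : Set G)) : CQ w) = 1 := by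
    have h6 : ((k * ⟨a, ham⟩ * k⁻¹ : centralizer ({w} : Set G)) : CQ w) =
        ((⟨b, hbm⟩ : centralizer ({w} : Set G)) : CQ w) := by
      apply e.injective
      rw [QuotientGroup.mk_mul, QuotientGroup.mk_mul, QuotientGroup.mk_inv, map_mul, map_mul, map_inv, hk,
        e.apply_symm_apply, hx]
    rw [QuotientGroup.mk_mul, h6, QuotientGroup.mk_inv, mul_inv_cancel]
  have h6 : (k : G) * a * (k : G)⁻¹ * b⁻¹ ∈ zpowers w := (Cfsg.Agent.J2Type.CentQuot.mk_eq_one _).1 h5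
  have hkw : (k : G) * w = w * k := mem_centralizer_singleton_iff.1 k.2
  refine ⟨k, hkw, ?_⟩
  obtain ⟨m, hm⟩ := mem_zpowers_iff.1 h6
  have h7 : (k : G) * a * (k : G)⁻¹ = w ^ m * b := by rw [hm]; group
  have hcb : Commute (w ^ m) b := (show Commute w b from hbw.symm).zpow_left m
  have ha3 : a ^ 3 = 1 := by rw [← ha, pow_orderOf_eq_one]
  have hb3 : b ^ 3 = 1 := by rw [← hb, pow_orderOf_eq_one]
  have h8 : (w ^ m) ^ 3 = 1 := by
    have h9 : ((k : G) * a * (k : G)⁻¹) ^ 3 = 1 := by rw [conj_pow, ha3, mul_one, mul_inv_cancel]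
    rw [h7, hcb.mul_pow, hb3, mul_one] at h9
    exact h9
  have h9 : (w ^ m) ^ 5 = 1 := by
    rw [← zpow_natCast (w ^ m), ← zpow_mul, mul_comm, zpow_mul, zpow_natCast, ← hw, pow_orderOf_eq_one, one_zpow]
  have h10 : w ^ m = 1 := by
    have h11 : (w ^ m) ^ (Nat.gcd 3 5) = 1 := pow_gcd_eq_one.2 ⟨h8, h9⟩
    simpa using h11
  rw [h7, h10, one_mul]

/-- elements of order 15 -/
theorem real_fifteen [Finite G] (h : Fus z u) {x : G} (hx : orderOf x = 15) : IsConj x x⁻¹ := by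
  have hG := Cfsg.Agent.J2Type.Order.card_of_fus h
  have : Fact (Nat.Prime 2) := ⟨Nat.prime_two⟩
  -- the two parts
  set b := x ^ 6 with hb
  set a := x ^ 10 with ha
  have hx15 : x ^ 15 = 1 := by rw [← hx, pow_orderOf_eq_one]
  have hb5 : orderOf b = 5 := by
    rw [hb, orderOf_pow, hx]; decide
  have ha3 : orderOf a = 3 := by
    rw [ha, orderOf_pow, hx]; decide
  have hab : a * b = b * a := by rw [ha, hb, ← pow_add, ← pow_add]
  have hxab : x = a * b := by
    rw [ha, hb, ← pow_add]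
    calc x = x ^ 15 * x := by rw [hx15, one_mul]
      _ = x ^ (10 + 6) := by rw [← pow_succ]
  have h2 := Cfsg.Agent.H102.AAJtwo.even_five h hb5
  obtain ⟨⟨i, hi⟩, hi2⟩ := exists_prime_orderOf_dvd_card' (G := centralizer ({b} : Set G)) 2 h2
  rw [Subgroup.orderOf_mk] at hi2
  have hib : i * b = b * i := mem_centralizer_singleton_iff.1 hi
  rcases h.cover i hi2 with h3 | h3
  · -- impossible
    exfalso
    obtain ⟨g, hg⟩ := isConj_iff.1 h3
    have hz : g⁻¹ * i * g = z := by rw [← hg]; group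
    have h5 : orderOf (g⁻¹ * b * g) = 5 := by
      rw [← hb5]
      have := orderOf_injective (MulAut.conj g⁻¹).toMonoidHom (MulAut.conj g⁻¹).injective b
      rw [← this]
      simp
    have h6 : (g⁻¹ * b * g) * z = z * (g⁻¹ * b * g) := by
      rw [← hz]
      calc (g⁻¹ * b * g) * (g⁻¹ * i * g) = g⁻¹ * (b * i) * g := by group
        _ = g⁻¹ * (i * b) * g := by rw [hib]
        _ = _ := by group
    apply Cfsg.Agent.J2Type.ThreeD.not_three_dvd h h5 h6
    have h7 : orderOf (⟨g⁻¹ * a * g, mem_centralizer_singleton_iff.2 (by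
        calc (g⁻¹ * a * g) * (g⁻¹ * b * g) = g⁻¹ * (a * b) * g := by group
          _ = g⁻¹ * (b * a) * g := by rw [hab]
          _ = _ := by group)⟩ : centralizer ({g⁻¹ * b * g} : Set G)) = 3 := by
      rw [Subgroup.orderOf_mk, ← ha3]
      have := orderOf_injective (MulAut.conj g⁻¹).toMonoidHom (MulAut.conj g⁻¹).injective a
      rw [← this]
      simp
    rw [← h7]
    exact orderOf_dvd_natCard _
  · obtain ⟨g, hg⟩ := isConj_iff.1 h3
    have hu : g⁻¹ * i * g = u := by rw [← hg]; group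
    obtain ⟨f, U, V, H0, F⟩ := Cfsg.Agent.J2Type.CentU.main h
    have h60 := Cfsg.Agent.J2Type.ThreeA.card_H0 h F
    apply isConj_inv_of_conj (g := g⁻¹)
    rw [inv_inv]
    set b' := g⁻¹ * b * g with hb'
    set a' := g⁻¹ * a * g with ha'
    have h5 : orderOf b' = 5 := by
      rw [← hb5]
      have := orderOf_injective (MulAut.conj g⁻¹).toMonoidHom (MulAut.conj g⁻¹).injective b
      rw [← this, hb']
      simp
    have h5a : orderOf a' = 3 := by
      rw [← ha3]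
      have := orderOf_injective (MulAut.conj g⁻¹).toMonoidHom (MulAut.conj g⁻¹).injective a
      rw [← this, ha']
      simp
    have hab' : a' * b' = b' * a' := by
      calc (g⁻¹ * a * g) * (g⁻¹ * b * g) = g⁻¹ * (a * b) * g := by group
        _ = g⁻¹ * (b * a) * g := by rw [hab]
        _ = _ := by rw [ha', hb']; group
    have hx' : g⁻¹ * x * g = a' * b' := by rw [hxab, ha', hb']; group
    have h6 : b' * u = u * b' := by
      rw [← hu, hb']
      calc (g⁻¹ * b * g) * (g⁻¹ * i * g) = g⁻¹ * (b * i) * g := by group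
        _ = g⁻¹ * (i * b) * g := by rw [hib]
        _ = _ := by group
    -- `b' ∈ H0`
    have hbH : b' ∈ H0 := by
      obtain ⟨c, hc, d, hd, hcd⟩ := Cfsg.Agent.J2Type.Cent5.exists_mul F (mem_centralizer_singleton_iff.2 h6)
      have hcc := Cfsg.Agent.J2Type.Cent5.sq_V h F hc
      have hcd' : Commute c d := Cfsg.Agent.J2Type.Cent5.V_comm h F h60 hc hd
      have h7 : b' ^ 6 = d ^ 6 := by
        rw [hcd, hcd'.mul_pow, show 6 = 2 * 3 from rfl, pow_mul c, pow_two c, hcc, one_pow, one_mul]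
      have h8 : b' ^ 6 = b' := by
        rw [pow_succ, ← h5, pow_orderOf_eq_one, one_mul]
      rw [← h8, h7]
      exact H0.pow_mem hd 6
    obtain ⟨e⟩ := Cfsg.Agent.J2Type.Cent5.exists_equiv_CQ h F h60 hG hbH h5
    have hreal := (Cfsg.Agent.J2Type.Cent5.good_of_mem h F h60 hbH h5).2.1
    obtain ⟨m, hm⟩ := isConj_iff.1 hreal
    have h7 : (m * a' * m⁻¹) * b' = b' * (m * a' * m⁻¹) := by
      have h8 : b' = m * b'⁻¹ * m⁻¹ := by
        have : m * b'⁻¹ * m⁻¹ = (m * b' * m⁻¹)⁻¹ := by group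
        rw [this, hm, inv_inv]
      have h9 : a' * b'⁻¹ = b'⁻¹ * a' := (show Commute a' b' from hab').inv_right.eq
      calc (m * a' * m⁻¹) * b' = (m * a' * m⁻¹) * (m * b'⁻¹ * m⁻¹) := by rw [← h8]
        _ = m * (a' * b'⁻¹) * m⁻¹ := by group
        _ = m * (b'⁻¹ * a') * m⁻¹ := by rw [h9]
        _ = (m * b'⁻¹ * m⁻¹) * (m * a' * m⁻¹) := by group
        _ = b' * (m * a' * m⁻¹) := by rw [← h8]
    have h8 : orderOf (m * a' * m⁻¹) = 3 := by
      rw [← h5a]
      exact orderOf_injective (MulAut.conj m).toMonoidHom (MulAut.conj m).injective a'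
    obtain ⟨k, hk1, hk2⟩ := conj_three_of_equiv h5 e h8 (by rw [orderOf_inv]; exact h5a) h7
      (show Commute a' b' from hab').inv_left.eq
    have h9 : k * b'⁻¹ * k⁻¹ = b'⁻¹ := by
      have : Commute k b'⁻¹ := (show Commute k b' from hk1).inv_right
      rw [this.eq, mul_inv_cancel_right]
    rw [hx']
    refine isConj_iff.2 ⟨k * m, ?_⟩
    calc k * m * (a' * b') * (k * m)⁻¹ = (k * (m * a' * m⁻¹) * k⁻¹) * (k * (m * b' * m⁻¹) * k⁻¹) := by group
      _ = a'⁻¹ * b'⁻¹ := by rw [hk2, hm, h9]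
      _ = (a' * b')⁻¹ := by rw [← mul_inv_rev, hab']

/-- elements of order divisible by 7 -/
theorem real_seven [Finite G] (h : Fus z u) {x : G} (hx : 7 ∣ orderOf x) : IsConj x x⁻¹ := by
  have hG := Cfsg.Agent.J2Type.Order.card_of_fus h
  have : Fact (Nat.Prime 7) := ⟨by norm_num⟩
  have : Fact (Nat.Prime 2) := ⟨Nat.prime_two⟩
  have hy : orderOf (x ^ (orderOf x / 7)) = 7 := orderOf_pow_orderOf_div (orderOf_pos x).ne' hx
  set y := x ^ (orderOf x / 7) with hydef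
  have h7 : ∀ P : Sylow 7 G, Nat.card (P : Subgroup G) = 7 := by
    intro P
    have := Cfsg.Agent.J2Type.SylowSeven.card_sylow P 1 86400 (by rw [hG]; norm_num) (by norm_num)
    simpa using this
  have h8 : IsPGroup 7 (zpowers y) := IsPGroup.of_card (n := 1) (by rw [Nat.card_zpowers, hy, pow_one])
  obtain ⟨P, hPy⟩ := h8.exists_le_sylow
  have h9 : (P : Subgroup G) = zpowers y :=
    (eq_of_le_of_card_ge hPy (by rw [Nat.card_zpowers, hy]; exact (h7 P).le)).symm
  obtain ⟨hC, hN, -⟩ := Cfsg.Agent.J2Type.ThreeF.sylow_seven h P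
  -- `x ∈ C(y) = ⟨y⟩`
  have hxP : x ∈ (P : Subgroup G) := by
    rw [← hC, mem_centralizer_iff]
    intro w hw
    have hw' : w ∈ zpowers y := by rw [← h9]; exact hw
    obtain ⟨k, rfl⟩ := mem_zpowers_iff.1 hw'
    have : Commute x y := (Commute.refl x).pow_right _
    exact (this.zpow_right k).eq.symm
  -- an involution of the normaliser
  obtain ⟨⟨t, ht⟩, ht2⟩ := exists_prime_orderOf_dvd_card' (G := normalizer ((P : Subgroup G) : Set G)) 2
    (by rw [hN]; norm_num)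
  rw [Subgroup.orderOf_mk] at ht2
  have htt : t * t = 1 := by rw [← pow_two, ← ht2, pow_orderOf_eq_one]
  have hti : t⁻¹ = t := inv_eq_of_mul_eq_one_left htt
  have h10 : t * y * t⁻¹ ∈ (P : Subgroup G) := (mem_normalizer_iff.1 ht y).1 (hPy (mem_zpowers y))
  have hyinv : t * y * t⁻¹ = y⁻¹ := by
    rw [h9] at h10
    obtain ⟨k, hk⟩ := mem_zpowers_iff.1 h10
    have h11 : y ^ (k * k) = y := by
      rw [zpow_mul, hk, conj_zpow, hk, hti]
      calc t * (t * y * t) * t = (t * t) * y * (t * t) := by group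
        _ = y := by rw [htt]; group
    have h12 : (7 : ℤ) ∣ k * k - 1 := by
      have : y ^ (k * k - 1) = 1 := by rw [zpow_sub, h11, zpow_one, mul_inv_cancel]
      have h13 := orderOf_dvd_iff_zpow_eq_one.2 this
      rwa [hy] at h13
    have h13 : (7 : ℤ) ∣ (k - 1) * (k + 1) := by
      have : (k - 1) * (k + 1) = k * k - 1 := by ring
      rwa [this]
    have hp7 : Prime (7 : ℤ) := by norm_num
    rcases hp7.dvd_or_dvd h13 with h14 | h14
    · -- `t` centralises `y`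
      exfalso
      have h15 : y ^ (k - 1) = 1 := orderOf_dvd_iff_zpow_eq_one.1 (by rw [hy]; exact_mod_cast h14)
      have h16 : y ^ k = y := by
        rw [show k = (k - 1) + 1 by ring, zpow_add, h15, one_mul, zpow_one]
      rw [h16] at hk
      have h17 : Commute t y := by
        have := mul_inv_eq_iff_eq_mul.1 hk.symm
        exact this
      have h18 : t ∈ (P : Subgroup G) := by
        rw [← hC, mem_centralizer_iff]
        intro w hw
        have hw' : w ∈ zpowers y := by rw [← h9]; exact hw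
        obtain ⟨k, rfl⟩ := mem_zpowers_iff.1 hw'
        exact (h17.zpow_right k).eq.symm
      have h19 : orderOf t ∣ 7 := by
        rw [← h7 P]
        have := orderOf_dvd_natCard (⟨t, h18⟩ : (P : Subgroup G))
        rwa [Subgroup.orderOf_mk] at this
      rw [ht2] at h19
      norm_num at h19
    · have h15 : y ^ (k + 1) = 1 := orderOf_dvd_iff_zpow_eq_one.1 (by rw [hy]; exact_mod_cast h14)
      rw [← hk]
      rw [zpow_add, zpow_one] at h15
      exact eq_inv_of_mul_eq_one_left h15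
  rw [h9] at hxP
  obtain ⟨k, hk⟩ := mem_zpowers_iff.1 hxP
  refine isConj_iff.2 ⟨t, ?_⟩
  rw [← hk, ← conj_zpow, hyinv, inv_zpow]

/-- the Sylow 3-subgroups have exponent 3 -/
theorem exp_three [Finite G] (h : Fus z u) {c : G} {n : ℕ} (hc : orderOf c = 3 ^ n) : c ^ 3 = 1 := by
  have : Fact (Nat.Prime 3) := ⟨by norm_num⟩
  obtain ⟨f, U, V, H0, F⟩ := Cfsg.Agent.J2Type.CentU.main h
  obtain ⟨d, hd, hdV, hdH⟩ := Cfsg.Agent.J2Type.ThreeA.exists_d h F
  obtain ⟨P, hPd, hfP, hdP⟩ := Cfsg.Agent.J2Type.ThreeF.exists_sylow h F hd hdH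
  obtain ⟨h216, hcl⟩ := Cfsg.Agent.J2Type.ThreeF.card_normalizer h F hd hdV hdH hPd hfP hdP
  obtain ⟨g, hg⟩ := Cfsg.Agent.J2Type.SylowFive.exists_conj_mem_sylow P (y := c) (n := n) hc
  have key : (g * c * g⁻¹) ^ 3 = 1 := by
    by_cases h1 : g * c * g⁻¹ ∈ zpowers d
    · obtain ⟨k, hk⟩ := mem_zpowers_iff.1 h1
      rw [← hk, ← zpow_natCast, ← zpow_mul, mul_comm, zpow_mul, zpow_natCast, ← hd, pow_orderOf_eq_one, one_zpow]
    · obtain ⟨m, hm⟩ := isConj_iff.1 (hcl _ hg h1)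
      rw [← hm, conj_pow, ← F.f_ord, pow_orderOf_eq_one, mul_one, mul_inv_cancel]
  rw [conj_pow] at key
  have : c ^ 3 = g⁻¹ * (g * c ^ 3 * g⁻¹) * g := by group
  rw [this, key, mul_one, inv_mul_cancel]

/-- no element of order 25 -/
theorem not_25 [Finite G] (h : Fus z u) {x : G} (hx : orderOf x = 25) : False := by
  have : Fact (Nat.Prime 5) := ⟨by norm_num⟩
  have h8 : IsPGroup 5 (zpowers x) := IsPGroup.of_card (n := 2) (by rw [Nat.card_zpowers, hx]; norm_num)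
  obtain ⟨P, hPx⟩ := h8.exists_le_sylow
  obtain ⟨-, h25, -, X, Y, hX, hY, hXY, -⟩ := Cfsg.Agent.J2Type.FiveFus.sylow_five h P
  have h9 : (P : Subgroup G) = zpowers x :=
    (eq_of_le_of_card_ge hPx (by rw [Nat.card_zpowers, hx]; exact h25.le)).symm
  -- the unique subgroup of order 5
  have hZ : Nat.card (zpowers (x ^ 5)) = 5 := by
    rw [Nat.card_zpowers, orderOf_pow, hx]
    decide
  have huniq : ∀ W : Subgroup G, Nat.card W = 5 → W ≤ (P : Subgroup G) → W = zpowers (x ^ 5) := by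
    intro W hW hWP
    refine eq_of_le_of_card_ge ?_ (by rw [hW, hZ])
    intro w hw
    have h10 := hWP hw
    rw [h9] at h10
    obtain ⟨k, rfl⟩ := mem_zpowers_iff.1 h10
    have h11 : (x ^ k) ^ 5 = 1 := by
      have := pow_card_eq_one' (x := (⟨x ^ k, hw⟩ : W))
      rw [hW] at this
      exact congrArg Subtype.val this
    rw [← zpow_natCast, ← zpow_mul] at h11
    have h12 := orderOf_dvd_iff_zpow_eq_one.2 h11
    rw [hx] at h12
    have h13 : (5 : ℤ) ∣ k := by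
      obtain ⟨m, hm⟩ := h12
      push_cast at hm
      exact ⟨m, by omega⟩
    obtain ⟨m, rfl⟩ := h13
    refine mem_zpowers_iff.2 ⟨m, ?_⟩
    rw [zpow_mul]
    norm_cast
  have hex : ∀ W : Subgroup G, Nat.card W = 5 → ∃ g : G, W.map (MulAut.conj g).toMonoidHom = zpowers (x ^ 5) := by
    intro W hW
    have h10 : IsPGroup 5 W := IsPGroup.of_card (n := 1) (by rw [hW, pow_one])
    obtain ⟨R, hR⟩ := h10.exists_le_sylow
    obtain ⟨g, hg⟩ := MulAction.exists_smul_eq G R P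
    refine ⟨g, huniq _ ?_ ?_⟩
    · rw [Subgroup.card_map_of_injective (MulAut.conj g).injective, hW]
    · rw [← hg]
      rintro _ ⟨w, hw, rfl⟩
      exact Subgroup.smul_mem_pointwise_smul _ (MulAut.conj g) _ (hR hw)
  obtain ⟨g, hg⟩ := hex X hX
  obtain ⟨k, hk⟩ := hex Y hY
  apply hXY (k⁻¹ * g)
  rw [map_mul]
  have h10 : Y = (Y.map (MulAut.conj k).toMonoidHom).map (MulAut.conj k⁻¹).toMonoidHom := by
    rw [Subgroup.map_map]
    have : ((MulAut.conj k⁻¹).toMonoidHom.comp (MulAut.conj k).toMonoidHom : G →* G) = MonoidHom.id G := by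
      ext y
      show k⁻¹ * (k * y * k⁻¹) * k⁻¹⁻¹ = y
      group
    rw [this, Subgroup.map_id]
  rw [h10, hk, ← hg, Subgroup.map_map]
  rfl

/-- **Every element is conjugate to its inverse.** -/
theorem real_all [Finite G] {Q : Subgroup (centralizer ({z} : Set G))} {v : Fin 5 → centralizer ({z} : Set G)}
    {ρ : centralizer ({z} : Set G) →* SP} (D : Cfsg.Agent.KFacts.J2.Basic.Dat z u Q v ρ) (x : G) :
    IsConj x x⁻¹ := by
  by_cases h2 : 2 ∣ orderOf x
  · exact real_even D h2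
  have hodd : Odd (orderOf x) := by
    rw [← Nat.not_even_iff_odd, even_iff_two_dvd]; exact h2
  have hG := Cfsg.Agent.J2Type.Order.card_of_fus D.F
  by_cases h7 : 7 ∣ orderOf x
  · exact real_seven D.F h7
  have h9 : ¬ 9 ∣ orderOf x := by
    intro h9
    have h1 := orderOf_pow_orderOf_div (orderOf_pos x).ne' h9
    have h3 := exp_three D.F (n := 2) (c := x ^ (orderOf x / 9)) (by rw [h1]; norm_num)
    have h4 := orderOf_dvd_of_pow_eq_one h3
    rw [h1] at h4
    norm_num at h4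
  have h25 : ¬ 25 ∣ orderOf x := fun h25 => not_25 D.F (orderOf_pow_orderOf_div (orderOf_pos x).ne' h25)
  have hd : orderOf x ∣ 604800 := by rw [← hG]; exact orderOf_dvd_natCard x
  have hd' : orderOf x ∣ 4725 := by
    have : Nat.Coprime (orderOf x) (2 ^ 7) := Nat.Coprime.pow_right 7 ((Nat.coprime_two_right).2 hodd)
    exact this.dvd_of_dvd_mul_left (by rw [show 2 ^ 7 * 4725 = 604800 by norm_num]; exact hd)
  have hcases : orderOf x = 1 ∨ orderOf x = 3 ∨ orderOf x = 5 ∨ orderOf x = 15 := by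
    have key : ∀ n ∈ Nat.divisors 4725, ¬ 7 ∣ n → ¬ 9 ∣ n → ¬ 25 ∣ n → n = 1 ∨ n = 3 ∨ n = 5 ∨ n = 15 := by
      (rewrite [Cfsg.Agent.Lib.DivFast.divisors_eq]; decide +kernel)
    exact key _ (Nat.mem_divisors.2 ⟨hd', by norm_num⟩) h7 h9 h25
  rcases hcases with h | h | h | h
  · rw [orderOf_eq_one_iff] at h
    rw [h, inv_one]
  · exact real_of_comm D hodd (Cfsg.Agent.H102.AAJtwo.even_three D.F h)
  · exact real_of_comm D hodd (Cfsg.Agent.H102.AAJtwo.even_five D.F h)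
  · exact real_fifteen D.F h

/-- **`J₂` is ambivalent.** -/
theorem ambivalent {S : Type*} [Group S] [Finite S] (h : Cfsg.Spor.IsoJ2 S) (x : S) : IsConj x x⁻¹ := by
  obtain ⟨t, u, Q, v, ρ, D⟩ := Cfsg.Agent.KFacts.J2.Facts.exists_dat_of h
  exact real_all D x

theorem amb {S : Type*} [Group S] [Finite S] (h : Cfsg.Spor.IsoJ2 S) : Cfsg.Agent.H976.Cop.Amb S := by
  intro x
  obtain ⟨g, hg⟩ := isConj_iff.1 (ambivalent h x)
  exact ⟨MulAut.conj g, hg⟩

/-- **The row `J₂` of S4175.** -/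
theorem row_j2 {S : Type*} [Group S] [Finite S] (h : Cfsg.Spor.IsoJ2 S) : Cfsg.Agent.H505.Cop.CopRow S :=
  (amb h).cop

end Cfsg.Agent.H306.J2
end
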